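import Groth.Agent.Unram17.K653.NormMain
import Groth.Agent.Variety.K424.NormDimOne
import Groth.Prelude.Def_Curv2
import Groth.Prelude.Def_CurvBase
import Mathlib.AlgebraicGeometry.Morphisms.Smooth

/-!
# Sections of the normalization, and smoothness over affine pieces
-/

set_option autoImplicit false
universe u

open CategoryTheory CategoryTheory.Limits AlgebraicGeometry TensorProduct

namespace K653.NormSch

/-- The sections of the normalization over an affine open are the integral closure. -/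
theorem normalization_data (X : Scheme.{u}) [IsIntegral X]
    [QuasiCompact (X.fromSpecStalk (genericPoint X))]
    [QuasiSeparated (X.fromSpecStalk (genericPoint X))] (U : X.Opens)
    (hU : IsAffineOpen U) (hη : genericPoint X ∈ U) :
    letI := ((Curv2.normalizationι X).app U).hom.toAlgebra
    ∃ (F : Type u) (_ : Field F) (_ : Algebra Γ(X, U) F) (_ : IsFractionRing Γ(X, U) F)
      (_ : Algebra Γ(Curv2.normalization X, Curv2.normalizationι X ⁻¹ᵁ U) F),
      IsScalarTower Γ(X, U) Γ(Curv2.normalization X, Curv2.normalizationι X ⁻¹ᵁ U) F ∧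
      IsIntegralClosure Γ(Curv2.normalization X, Curv2.normalizationι X ⁻¹ᵁ U) Γ(X, U) F := by
  let f := X.fromSpecStalk (genericPoint X)
  let B := Γ(X, U)
  let C := Γ(Curv2.normalization X, Curv2.normalizationι X ⁻¹ᵁ U)
  let F := Γ(Spec (X.presheaf.stalk (genericPoint X)), f ⁻¹ᵁ U)
  let algBC : Algebra B C := ((Curv2.normalizationι X).app U).hom.toAlgebra
  let algBF : Algebra B F := (f.app U).hom.toAlgebra
  have hne : Nonempty U := ⟨⟨_, hη⟩⟩
  have hBdom : IsDomain B := inferInstance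
  have hfr : IsFractionRing B F := K424.NormDimOne.isFractionRing X U hU hη
  let e : C ≅ CommRingCat.of (integralClosure B F) := f.normalizationObjIso hU
  have he : ((Curv2.normalizationι X).app U) =
      CommRingCat.ofHom (algebraMap B (integralClosure B F)) ≫ e.inv :=
    f.fromNormalization_app hU
  let fldF : Field F := IsFractionRing.toField B
  let algCF : Algebra C F := ((integralClosure B F).val.toRingHom.comp e.hom.hom).toAlgebra
  have hBCF : IsScalarTower B C F := by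
    refine IsScalarTower.of_algebraMap_eq fun b => ?_
    change algebraMap B F b =
      (integralClosure B F).val (e.hom.hom (((Curv2.normalizationι X).app U).hom b))
    rw [he]
    have : e.hom.hom ((CommRingCat.ofHom (algebraMap B (integralClosure B F)) ≫ e.inv).hom b) =
        algebraMap B (integralClosure B F) b := by
      change (e.inv ≫ e.hom).hom _ = _
      rw [e.inv_hom_id]
      rfl
    rw [this]
    rfl
  have hbij : Function.Bijective e.hom.hom := ConcreteCategory.bijective_of_isIso e.hom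
  have hIC : IsIntegralClosure C B F := by
    constructor
    · exact (Subtype.val_injective).comp hbij.1
    · intro x
      constructor
      · intro hx
        obtain ⟨y, hy⟩ := hbij.2 ⟨x, hx⟩
        refine ⟨y, ?_⟩
        change (integralClosure B F).val (e.hom.hom y) = x
        rw [hy]
        rfl
      · rintro ⟨y, rfl⟩
        exact (e.hom.hom y).2
  exact ⟨F, fldF, algBF, hfr, algCF, hBCF, hIC⟩

/-- The ring map from the coefficient ring to the sections over an open. -/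
noncomputable def cf {Y : Scheme.{u}} {A : Type u} [CommRing A] (q : Y ⟶ Spec (CommRingCat.of A))
    (U : Y.Opens) : A →+* Γ(Y, U) :=
  ((Scheme.ΓSpecIso (CommRingCat.of A)).inv ≫ q.appLE ⊤ U le_top).hom

theorem ofHom_cf {Y : Scheme.{u}} {A : Type u} [CommRing A] (q : Y ⟶ Spec (CommRingCat.of A))
    (U : Y.Opens) : CommRingCat.ofHom (cf q U) =
      (Scheme.ΓSpecIso (CommRingCat.of A)).inv ≫ q.appLE ⊤ U le_top := rfl

/-- The square of rings of sections of a cartesian square over affine bases is a pushout. -/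
theorem isPushout_cf {Y Y' : Scheme.{u}} {A B : Type u} [CommRing A] [CommRing B] {φ : A →+* B}
    {h : Y' ⟶ Y} {q : Y ⟶ Spec (CommRingCat.of A)} {q' : Y' ⟶ Spec (CommRingCat.of B)}
    (H : IsPullback h q' q (Spec.map (CommRingCat.ofHom φ))) {W : Y.Opens} (hW : IsAffineOpen W) :
    IsPushout (CommRingCat.ofHom φ) (CommRingCat.ofHom (cf q W))
      (CommRingCat.ofHom (cf q' (h ⁻¹ᵁ W))) (h.appLE W (h ⁻¹ᵁ W) le_rfl) := by
  have h1 := isIso_pushoutSection_of_isAffineOpen H (US := ⊤) (UT := ⊤) (UX := W)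
    (UY := h ⁻¹ᵁ W) le_top le_top (by simp) (isAffineOpen_top _) (isAffineOpen_top _) hW
  have h2 := (isIso_pushoutSection_iff H (US := ⊤) (UT := ⊤) (UX := W)
    (UY := h ⁻¹ᵁ W) le_top le_top (by simp)).mp h1
  have h3 : (Spec.map (CommRingCat.ofHom φ)).appLE ⊤ ⊤ le_top =
      (Spec.map (CommRingCat.ofHom φ)).appTop := Scheme.Hom.appLE_eq_app _
  rw [h3] at h2
  refine IsPushout.flip (IsPushout.of_iso h2 (Scheme.ΓSpecIso (CommRingCat.of A)) (Iso.refl _)
    (Scheme.ΓSpecIso (CommRingCat.of B)) (Iso.refl _) ?_ ?_ ?_ ?_)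
  · rw [ofHom_cf, Iso.hom_inv_id_assoc]
    exact Category.comp_id _
  · exact Scheme.ΓSpecIso_naturality _
  · exact (Category.comp_id _).trans (Category.id_comp _).symm
  · rw [ofHom_cf, Iso.hom_inv_id_assoc]
    exact Category.comp_id _

/-- `k' ⊗ Γ(X, U) → Γ(Z, W)` for a surjective closed subscheme `Z` of the base change. -/
theorem exists_pi {k k' : Type u} [Field k] [Field k'] [Algebra k k'] {X Y Z : Scheme.{u}}
    (q : X ⟶ Spec (CommRingCat.of k)) (q' : Y ⟶ Spec (CommRingCat.of k')) (h : Y ⟶ X)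
    (H : IsPullback h q' q (Spec.map (CommRingCat.ofHom (algebraMap k k'))))
    (i : Z ⟶ Y) [IsClosedImmersion i] [Surjective i] {U : X.Opens} (hU : IsAffineOpen U)
    [Algebra k Γ(X, U)] (hA : algebraMap k Γ(X, U) = cf q U)
    [Algebra k' Γ(Z, i ⁻¹ᵁ (h ⁻¹ᵁ U))]
    (hT : algebraMap k' Γ(Z, i ⁻¹ᵁ (h ⁻¹ᵁ U)) = cf (i ≫ q') (i ⁻¹ᵁ (h ⁻¹ᵁ U))) :
    ∃ π : k' ⊗[k] Γ(X, U) →ₐ[k'] Γ(Z, i ⁻¹ᵁ (h ⁻¹ᵁ U)), Function.Surjective π ∧
      ∀ z, π z = 0 → IsNilpotent z := by
  have hh : IsAffineHom h := MorphismProperty.of_isPullback H.flip inferInstance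
  have hV : IsAffineOpen (h ⁻¹ᵁ U) := hU.preimage h
  have P1 := isPushout_cf H hU
  have P2 := CommRingCat.isPushout_tensorProduct k k' Γ(X, U)
  rw [hA] at P2
  let e := IsPushout.isoIsPushout _ _ P2 P1
  have he1 : ∀ x : k', e.hom.hom (x ⊗ₜ 1) = cf q' (h ⁻¹ᵁ U) x := fun x =>
    congr(($(IsPushout.inl_isoIsPushout_hom _ _ P2 P1)).hom x)
  have hbij : Function.Bijective e.hom.hom := ConcreteCategory.bijective_of_isIso e.hom
  let ρ : k' ⊗[k] Γ(X, U) →+* Γ(Z, i ⁻¹ᵁ (h ⁻¹ᵁ U)) := (i.app (h ⁻¹ᵁ U)).hom.comp e.hom.hom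
  have hcf : ∀ x : k', (i.app (h ⁻¹ᵁ U)).hom (cf q' (h ⁻¹ᵁ U) x) =
      cf (i ≫ q') (i ⁻¹ᵁ (h ⁻¹ᵁ U)) x := by
    intro x
    have h1 : CommRingCat.ofHom (cf q' (h ⁻¹ᵁ U)) ≫ i.app (h ⁻¹ᵁ U) =
        CommRingCat.ofHom (cf (i ≫ q') (i ⁻¹ᵁ (h ⁻¹ᵁ U))) := by
      rw [ofHom_cf, ofHom_cf, Category.assoc, Scheme.Hom.app_eq_appLE,
        Scheme.Hom.appLE_comp_appLE]
    exact congr(($h1).hom x)
  refine ⟨{ ρ with commutes' := fun x => ?_ }, ?_, ?_⟩
  · change (i.app (h ⁻¹ᵁ U)).hom (e.hom.hom (x ⊗ₜ 1)) = _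
    rw [he1, hcf, hT]
  · exact (i.app_surjective _ hV).comp hbij.2
  · intro z hz
    change (i.app (h ⁻¹ᵁ U)).hom (e.hom.hom z) = 0 at hz
    have h1 : IsNilpotent (e.hom.hom z) := by
      rw [Scheme.isNilpotent_iff_basicOpen_eq_bot_of_isCompact hV.isCompact]
      have h2 : i ⁻¹ᵁ (Y.basicOpen (e.hom.hom z)) = ⊥ := by
        rw [Scheme.preimage_basicOpen, hz]
        exact Scheme.basicOpen_zero _ _
      rw [eq_bot_iff]
      intro y hy
      obtain ⟨w, rfl⟩ := i.surjective y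
      have h3 : w ∈ i ⁻¹ᵁ (Y.basicOpen (e.hom.hom z)) := hy
      rw [h2] at h3
      exact h3.elim
    exact (IsNilpotent.map_iff hbij.1).1 h1

end K653.NormSch
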