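import Groth.Agent.EGA418.K148.RedExt
import Groth.Agent.SmVar.K658.SmAlg
import Groth.Agent.VarietyB.FinNormField
import Groth.Agent.Variety.K424.KADimOne
import Mathlib.RingTheory.Etale.Descent
import Mathlib.RingTheory.Flat.FaithfullyFlat.Basic

/-!
# Normalization after a finite purely inseparable extension: algebra

Let `k` be a field, `A` a finitely generated `k`-algebra which is a domain of dimension at most one
and `P` a perfect purely inseparable extension of `k`. For every sufficiently large subextension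
`k'` of `P`, the normalization of the reduction of `k' ⊗ A` is smooth over `k'`.
-/

set_option autoImplicit false
open scoped TensorProduct
universe u

namespace K653.NormAlg

/-- Every element of `P ⊗ A` comes from `k' ⊗ A` for `k'` containing a suitable finite set. -/
theorem exists_finset_range (k P A : Type*) [Field k] [Field P] [CommRing A] [Algebra k P]
    [Algebra k A] (z : P ⊗[k] A) : ∃ s : Finset P, ∀ (k' : Type u) [Field k'] [Algebra k k']
      (φ : k' →ₐ[k] P), (∀ x ∈ s, x ∈ Set.range φ) →
      ∃ w : k' ⊗[k] A, Algebra.TensorProduct.map φ (AlgHom.id k A) w = z := by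
  classical
  induction z with
  | zero => exact ⟨∅, fun k' _ _ φ _ => ⟨0, map_zero _⟩⟩
  | tmul p a =>
    refine ⟨{p}, fun k' _ _ φ h => ?_⟩
    obtain ⟨q, rfl⟩ := h p (Finset.mem_singleton_self p)
    exact ⟨q ⊗ₜ a, by simp⟩
  | add x y hx hy =>
    obtain ⟨s, hs⟩ := hx
    obtain ⟨t, ht⟩ := hy
    refine ⟨s ∪ t, fun k' _ _ φ h => ?_⟩
    obtain ⟨w₁, h₁⟩ := hs k' φ fun x hx => h x (Finset.mem_union_left _ hx)
    obtain ⟨w₂, h₂⟩ := ht k' φ fun x hx => h x (Finset.mem_union_right _ hx)
    exact ⟨w₁ + w₂, by rw [map_add, h₁, h₂]⟩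

/-- The same for finitely many elements. -/
theorem exists_finset_range_finset (k P A : Type*) [Field k] [Field P] [CommRing A] [Algebra k P]
    [Algebra k A] (Z : Finset (P ⊗[k] A)) :
    ∃ s : Finset P, ∀ (k' : Type u) [Field k'] [Algebra k k']
      (φ : k' →ₐ[k] P), (∀ x ∈ s, x ∈ Set.range φ) → ∀ z ∈ Z,
      ∃ w : k' ⊗[k] A, Algebra.TensorProduct.map φ (AlgHom.id k A) w = z := by
  classical
  choose f hf using fun z : P ⊗[k] A => exists_finset_range.{u} k P A z
  exact ⟨Z.biUnion f, fun k' _ _ φ h z hz => hf z k' φ fun x hx =>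
    h x (Finset.mem_biUnion.2 ⟨z, hz, hx⟩)⟩

end K653.NormAlg
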