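import Groth.Agent.Unram17.K653.NormAlg

/-!
# Comparing the reduction of `k' ⊗ A` with that of `P ⊗ A`
-/

set_option autoImplicit false
open scoped TensorProduct
universe u

namespace K653.NormCmp

open K148.RedExt

section

variable (k P A k' : Type u) [Field k] [Field P] [CommRing A] [Algebra k P] [Algebra k A]
  [Field k'] [Algebra k k'] [Algebra k' P] [IsScalarTower k k' P]

/-- `k' ⊗ A → P ⊗ A`. -/
noncomputable abbrev jj : k' ⊗[k] A →ₐ[k'] P ⊗[k] A :=
  Algebra.TensorProduct.map (Algebra.ofId k' P) (AlgHom.id k A)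

theorem jj_injective : Function.Injective (jj k P A k') := by
  have h : Function.Injective (LinearMap.rTensor A (IsScalarTower.toAlgHom k k' P).toLinearMap) :=
    Module.Flat.rTensor_preserves_injective_linearMap _ (algebraMap k' P).injective
  intro x y hxy
  apply h
  have h3 : ∀ z : k' ⊗[k] A, (LinearMap.rTensor A (IsScalarTower.toAlgHom k k' P).toLinearMap) z =
      jj k P A k' z := by
    intro z
    induction z with
    | zero => simp
    | tmul a b => simp [Algebra.ofId_apply]
    | add a b ha hb => rw [map_add, map_add, ha, hb]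
  rw [h3, h3, hxy]

/-- `k' ⊗ A → (P ⊗ A)_red`. -/
noncomputable abbrev theta : k' ⊗[k] A →ₐ[k'] Red k P A :=
  (Ideal.Quotient.mkₐ k' (nilradical (P ⊗[k] A))).comp (jj k P A k')

variable {T : Type u} [CommRing T] [IsDomain T] [Algebra k' T] (π : k' ⊗[k] A →ₐ[k'] T)
  (hπ : Function.Surjective π) (hker : ∀ z, π z = 0 → IsNilpotent z)

include hker in
omit [IsDomain T] in
theorem ker_le : RingHom.ker π.toRingHom ≤ RingHom.ker (theta k P A k').toRingHom := by
  intro z hz
  change theta k P A k' z = 0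
  change Ideal.Quotient.mk _ (jj k P A k' z) = 0
  rw [Ideal.Quotient.eq_zero_iff_mem, mem_nilradical]
  exact (hker z hz).map _

/-- The induced map `T → (P ⊗ A)_red`. -/
noncomputable def rho : T →ₐ[k'] Red k P A :=
  AlgHom.liftOfSurjective π hπ (theta k P A k') (ker_le k P A k' π hker)

omit [IsDomain T] in
theorem rho_apply (z : k' ⊗[k] A) : rho k P A k' π hπ hker (π z) = theta k P A k' z :=
  AlgHom.liftOfSurjective_apply π hπ (theta k P A k') (ker_le k P A k' π hker) z

theorem rho_injective : Function.Injective (rho k P A k' π hπ hker) := by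
  rw [injective_iff_map_eq_zero]
  intro t ht
  obtain ⟨z, rfl⟩ := hπ t
  rw [rho_apply] at ht
  have h1 : IsNilpotent (jj k P A k' z) :=
    mem_nilradical.1 (Ideal.Quotient.eq_zero_iff_mem.1 ht)
  have h2 : IsNilpotent z := (IsNilpotent.map_iff (jj_injective k P A k')).1 h1
  exact (h2.map π).eq_zero

/-- The comparison map `P ⊗ T → (P ⊗ A)_red`. -/
noncomputable def Phi : P ⊗[k'] T →ₐ[P] Red k P A :=
  Algebra.TensorProduct.lift (Algebra.ofId P _) (rho k P A k' π hπ hker)
    (fun _ _ => Commute.all _ _)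

omit [IsDomain T] in
theorem Phi_tmul (p : P) (t : T) : Phi k P A k' π hπ hker (p ⊗ₜ t) =
    algebraMap P (Red k P A) p * rho k P A k' π hπ hker t := by
  simp [Phi, Algebra.ofId_apply]

omit [IsDomain T] in
theorem Phi_surjective : Function.Surjective (Phi k P A k' π hπ hker) := by
  intro x
  obtain ⟨z, rfl⟩ := Ideal.Quotient.mk_surjective x
  induction z with
  | zero => exact ⟨0, by rw [map_zero, map_zero]⟩
  | tmul p a =>
    refine ⟨p ⊗ₜ π (1 ⊗ₜ a), ?_⟩
    rw [Phi_tmul, rho_apply]
    change Ideal.Quotient.mk _ (p ⊗ₜ[k] (1 : A)) * Ideal.Quotient.mk _ (jj k P A k' (1 ⊗ₜ a)) = _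
    rw [← map_mul]
    congr 1
    simp [jj]
  | add x y hx hy =>
    obtain ⟨x', hx'⟩ := hx
    obtain ⟨y', hy'⟩ := hy
    exact ⟨x' + y', by rw [map_add, hx', hy', map_add]⟩

variable (hN : nilradical (P ⊗[k] A) ≤ (nilradical (k' ⊗[k] A)).map (jj k P A k'))

/-- `P ⊗ A → P ⊗ T` -/
noncomputable def Psi : P ⊗[k] A →ₐ[P] P ⊗[k'] T :=
  Algebra.TensorProduct.lift (Algebra.TensorProduct.includeLeft : P →ₐ[P] P ⊗[k'] T)
    (((Algebra.TensorProduct.includeRight : T →ₐ[k'] P ⊗[k'] T).comp π).restrictScalars k |>.comp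
      (Algebra.TensorProduct.includeRight : A →ₐ[k] k' ⊗[k] A)) (fun _ _ => Commute.all _ _)

omit [IsDomain T] in
theorem Psi_tmul (p : P) (a : A) : Psi k P A k' π (p ⊗ₜ a) = p ⊗ₜ π (1 ⊗ₜ a) := by
  simp [Psi]

omit [IsDomain T] in
theorem Psi_jj (z : k' ⊗[k] A) : Psi k P A k' π (jj k P A k' z) = 1 ⊗ₜ π z := by
  induction z with
  | zero => simp
  | tmul p a =>
    have h1 : jj k P A k' (p ⊗ₜ a) = algebraMap k' P p ⊗ₜ a := by simp [jj, Algebra.ofId_apply]
    have h2 : p ⊗ₜ[k] a = p • ((1 : k') ⊗ₜ[k] a) := by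
      rw [TensorProduct.smul_tmul', smul_eq_mul, mul_one]
    rw [h1, Psi_tmul, h2, map_smul, TensorProduct.tmul_smul, Algebra.algebraMap_eq_smul_one,
      TensorProduct.smul_tmul']
  | add a b ha hb => rw [map_add, map_add, map_add, ha, hb, TensorProduct.tmul_add]

include hN in
theorem Psi_nil (z : P ⊗[k] A) (hz : z ∈ nilradical (P ⊗[k] A)) : Psi k P A k' π z = 0 := by
  have h1 : (nilradical (k' ⊗[k] A)).map (jj k P A k') ≤ RingHom.ker (Psi k P A k' π) := by
    rw [Ideal.map_le_iff_le_comap]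
    intro w hw
    rw [Ideal.mem_comap, RingHom.mem_ker, Psi_jj]
    have h2 : π w = 0 := ((mem_nilradical.1 hw).map π).eq_zero
    rw [h2, TensorProduct.tmul_zero]
  exact h1 (hN hz)

include hN in
theorem Phi_injective : Function.Injective (Phi k P A k' π hπ hker) := by
  let Ψ' : Red k P A →ₐ[P] P ⊗[k'] T := Ideal.Quotient.liftₐ (nilradical (P ⊗[k] A))
    (Psi k P A k' π) (Psi_nil k P A k' π hN)
  have h : ∀ z, Ψ' (Phi k P A k' π hπ hker z) = z := by
    intro z
    induction z with
    | zero => simp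
    | add a b ha hb => rw [map_add, map_add, ha, hb]
    | tmul p t =>
      obtain ⟨w, rfl⟩ := hπ t
      rw [Phi_tmul, rho_apply, map_mul, AlgHom.commutes]
      have h2 : Ψ' (theta k P A k' w) = Psi k P A k' π (jj k P A k' w) := rfl
      rw [h2, Psi_jj, Algebra.TensorProduct.algebraMap_apply, Algebra.TensorProduct.tmul_mul_tmul]
      simp
  exact Function.LeftInverse.injective h

end

end K653.NormCmp
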