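import Groth.Agent.Unram17.K653.NormCmp
import Mathlib.FieldTheory.PurelyInseparable.Basic
import Mathlib.RingTheory.Localization.Integral

/-!
# Comparing the normalizations
-/

set_option autoImplicit false
open scoped TensorProduct
universe u

namespace K653.NormCmp

open K148.RedExt

section

variable (k P A k' : Type u) [Field k] [Field P] [CommRing A] [Algebra k P] [Algebra k A]
  [Field k'] [Algebra k k'] [Algebra k' P] [IsScalarTower k k' P] [IsDomain A]
  [IsPurelyInseparable k P]
  {T : Type u} [CommRing T] [IsDomain T] [Algebra k' T] (π : k' ⊗[k] A →ₐ[k'] T)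
  (hπ : Function.Surjective π) (hker : ∀ z, π z = 0 → IsNilpotent z)

/-- Every element of `P ⊗ D` has a nonzero multiple in `P ⊗ T`. -/
theorem exists_mul {P k' T D K' : Type*} [Field P] [Field k'] [Algebra k' P] [CommRing T]
    [IsDomain T] [Algebra k' T] [CommRing D] [Algebra T D] [Algebra k' D] [IsScalarTower k' T D]
    [Field K'] [Algebra T K'] [IsFractionRing T K'] [Algebra D K'] [IsScalarTower T D K']
    (hinj : Function.Injective (algebraMap D K')) (z : P ⊗[k'] D) :
    ∃ t : T, t ≠ 0 ∧ ∃ w : P ⊗[k'] T, (1 : P) ⊗ₜ[k'] algebraMap T D t * z =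
      Algebra.TensorProduct.map (AlgHom.id P P) (IsScalarTower.toAlgHom k' T D) w := by
  induction z with
  | zero => exact ⟨1, one_ne_zero, 0, by simp⟩
  | tmul p d =>
    obtain ⟨a, b, hb, hab⟩ := IsFractionRing.div_surjective (A := T) (algebraMap D K' d)
    have hb0 : b ≠ 0 := nonZeroDivisors.ne_zero hb
    refine ⟨b, hb0, p ⊗ₜ a, ?_⟩
    have h1 : algebraMap T D b * d = algebraMap T D a := by
      apply hinj
      rw [map_mul, ← IsScalarTower.algebraMap_apply, ← IsScalarTower.algebraMap_apply, ← hab]
      have : algebraMap T K' b ≠ 0 := by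
        rw [Ne, map_eq_zero_iff _ (IsFractionRing.injective T K')]
        exact hb0
      field_simp
    simp [h1]
  | add x y hx hy =>
    obtain ⟨t₁, ht₁, w₁, h₁⟩ := hx
    obtain ⟨t₂, ht₂, w₂, h₂⟩ := hy
    refine ⟨t₁ * t₂, mul_ne_zero ht₁ ht₂, (1 ⊗ₜ t₂) * w₁ + (1 ⊗ₜ t₁) * w₂, ?_⟩
    rw [map_add, map_mul _ ((1 : P) ⊗ₜ[k'] t₂) w₁, map_mul _ ((1 : P) ⊗ₜ[k'] t₁) w₂, ← h₁, ← h₂,
      Algebra.TensorProduct.map_tmul, Algebra.TensorProduct.map_tmul]
    simp only [AlgHom.coe_id, id_eq, IsScalarTower.coe_toAlgHom', map_mul]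
    have h3 : (1 : P) ⊗ₜ[k'] (algebraMap T D t₁ * algebraMap T D t₂) =
        ((1 : P) ⊗ₜ[k'] algebraMap T D t₁) * ((1 : P) ⊗ₜ[k'] algebraMap T D t₂) := by
      rw [Algebra.TensorProduct.tmul_mul_tmul, one_mul]
    rw [h3]
    ring

/-- Multiplication by a nonzero element of a domain `D` stays injective on `P ⊗ D`. -/
theorem mul_injective {P k' D : Type*} [Field P] [Field k'] [Algebra k' P] [CommRing D]
    [IsDomain D] [Algebra k' D] (d : D) (hd : d ≠ 0) (z : P ⊗[k'] D)
    (hz : (1 : P) ⊗ₜ[k'] d * z = 0) : z = 0 := by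
  let m : D →ₗ[k'] D := LinearMap.mulLeft k' d
  have hm : Function.Injective m := fun a b h => mul_left_cancel₀ hd h
  have h1 : Function.Injective (LinearMap.lTensor P m) :=
    Module.Flat.lTensor_preserves_injective_linearMap m hm
  apply h1
  rw [map_zero, ← hz]
  clear hz
  induction z with
  | zero => simp
  | tmul a b => simp [m]
  | add a b ha hb => rw [map_add, ha, hb, mul_add]

include hπ hker in
omit [IsDomain A] in
/-- The main comparison: smoothness of the normalization over `P` descends to `k'`. -/
theorem smooth (hN : nilradical (P ⊗[k] A) ≤ (nilradical (k' ⊗[k] A)).map (jj k P A k'))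
    [IsDomain (Red k P A)]
    (hsm : Algebra.Smooth P (integralClosure (Red k P A) (FractionRing (Red k P A))))
    (G : Set (integralClosure (Red k P A) (FractionRing (Red k P A))))
    (hG : Submodule.span (Red k P A) G = ⊤)
    (hG' : ∀ g ∈ G, ∃ a b : k' ⊗[k] A, theta k P A k' b ≠ 0 ∧
      algebraMap (Red k P A) (FractionRing (Red k P A)) (theta k P A k' b) * (g : FractionRing (Red k P A)) =
        algebraMap (Red k P A) (FractionRing (Red k P A)) (theta k P A k' a))
    (D K' : Type u) [CommRing D] [Algebra T D] [Algebra k' D] [IsScalarTower k' T D]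
    [Field K'] [Algebra T K'] [IsFractionRing T K'] [Algebra D K'] [IsScalarTower T D K']
    [IsIntegralClosure D T K'] : Algebra.Smooth k' D := by
  let R := Red k P A
  let F := FractionRing R
  let ρ := rho k P A k' π hπ hker
  have hρ : Function.Injective ρ := rho_injective k P A k' π hπ hker
  have hDinj : Function.Injective (algebraMap D K') := IsIntegralClosure.algebraMap_injective D T K'
  have hDdom : IsDomain D := hDinj.isDomain
  have hTD : Function.Injective (algebraMap T D) := by
    intro a b hab
    apply IsFractionRing.injective T K'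
    rw [IsScalarTower.algebraMap_apply T D K', hab, ← IsScalarTower.algebraMap_apply]
  let g₀ : T →+* F := (algebraMap R F).comp ρ.toRingHom
  have hg₀ : Function.Injective g₀ := (IsFractionRing.injective R F).comp hρ
  let lam : K' →+* F := IsFractionRing.lift hg₀
  have hlam : ∀ t : T, lam (algebraMap T K' t) = algebraMap R F (ρ t) :=
    fun t => IsFractionRing.lift_algebraMap hg₀ t
  let _ : Algebra T R := ρ.toRingHom.toAlgebra
  have hTRF : IsScalarTower T R F := inferInstance
  let lamT : K' →ₐ[T] F := { lam with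
    commutes' := fun t => (hlam t).trans (IsScalarTower.algebraMap_apply T R F t).symm }
  have hk'TR : IsScalarTower k' T R := IsScalarTower.of_algebraMap_eq fun x => (ρ.commutes x).symm
  have hTR : Algebra.IsIntegral T R := by
    constructor
    intro x
    obtain ⟨z, rfl⟩ := Phi_surjective k P A k' π hπ hker x
    induction z with
    | zero => rw [map_zero]; exact isIntegral_zero
    | add a b ha hb => rw [map_add]; exact ha.add hb
    | tmul p t =>
      rw [Phi_tmul]
      have h1 : IsIntegral k' p := (Algebra.IsIntegral.isIntegral (R := k) p).tower_top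
      have h2 : IsIntegral k' (algebraMap P R p) := h1.map (IsScalarTower.toAlgHom k' P R)
      exact (h2.tower_top (A := T)).mul (isIntegral_algebraMap (R := T) (x := t))
  let IC := integralClosure R F
  let μ₀ : D →+* F := lam.comp (algebraMap D K')
  have hμ₀ : ∀ d : D, μ₀ d ∈ IC := fun d => by
    have h1 : IsIntegral T (algebraMap D K' d) := (IsIntegralClosure.isIntegral T K' d).algebraMap
    exact (h1.map lamT).tower_top
  let μ₁ : D →+* IC := μ₀.codRestrict IC hμ₀
  let μ : D →ₐ[k'] IC := { μ₁ with
    commutes' := fun x => by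
      apply Subtype.ext
      change lam (algebraMap D K' (algebraMap k' D x)) = algebraMap R F (algebraMap k' R x)
      rw [IsScalarTower.algebraMap_apply k' T D, ← IsScalarTower.algebraMap_apply T D K', hlam,
        ρ.commutes] }
  have hμ : ∀ d : D, (μ d : F) = lam (algebraMap D K' d) := fun d => rfl
  let Ξ : P ⊗[k'] D →ₐ[P] IC := Algebra.TensorProduct.lift (Algebra.ofId P IC) μ
    (fun _ _ => Commute.all _ _)
  have hΞ : ∀ (p : P) (d : D), Ξ (p ⊗ₜ d) = algebraMap P IC p * μ d := fun p d => by
    simp [Ξ, Algebra.ofId_apply]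
  have hΞΦ : ∀ w : P ⊗[k'] T, Ξ (Algebra.TensorProduct.map (AlgHom.id P P)
      (IsScalarTower.toAlgHom k' T D) w) = algebraMap R IC (Phi k P A k' π hπ hker w) := by
    intro w
    induction w with
    | zero => simp
    | add a b ha hb => rw [map_add, map_add, map_add, map_add, ha, hb]
    | tmul p t =>
      rw [Phi_tmul, Algebra.TensorProduct.map_tmul, hΞ]
      apply Subtype.ext
      change algebraMap R F (algebraMap P R p) * lam (algebraMap D K' (algebraMap T D t)) =
        algebraMap R F (algebraMap P R p * ρ t)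
      rw [map_mul, ← IsScalarTower.algebraMap_apply T D K', hlam]
  have hΞinj : Function.Injective Ξ := by
    rw [injective_iff_map_eq_zero]
    intro z hz
    obtain ⟨t, ht, w, hw⟩ := exists_mul (T := T) (K' := K') hDinj z
    have h1 : algebraMap R IC (Phi k P A k' π hπ hker w) = 0 := by
      rw [← hΞΦ, ← hw, map_mul, hz, mul_zero]
    have h2 : algebraMap R F (Phi k P A k' π hπ hker w) = 0 := congrArg Subtype.val h1
    rw [map_eq_zero_iff _ (IsFractionRing.injective R F),
      map_eq_zero_iff _ (Phi_injective k P A k' π hπ hker hN)] at h2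
    rw [h2, map_zero] at hw
    exact mul_injective _ ((map_ne_zero_iff _ hTD).2 ht) z hw
  have hΞsurj : Function.Surjective Ξ := by
    intro y
    have hy : y ∈ Submodule.span R G := by rw [hG]; trivial
    induction hy using Submodule.span_induction with
    | zero => exact ⟨0, map_zero _⟩
    | add a b _ _ ha hb =>
      obtain ⟨a', rfl⟩ := ha
      obtain ⟨b', rfl⟩ := hb
      exact ⟨a' + b', map_add _ _ _⟩
    | smul r a _ ha =>
      obtain ⟨a', rfl⟩ := ha
      obtain ⟨w, rfl⟩ := Phi_surjective k P A k' π hπ hker r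
      refine ⟨Algebra.TensorProduct.map (AlgHom.id P P) (IsScalarTower.toAlgHom k' T D) w * a', ?_⟩
      rw [map_mul, hΞΦ]
      exact (Algebra.smul_def _ _).symm
    | mem g hg =>
      obtain ⟨a, b, hb0, hab⟩ := hG' g hg
      have hρa : ρ (π a) = theta k P A k' a := rho_apply k P A k' π hπ hker a
      have hρb : ρ (π b) = theta k P A k' b := rho_apply k P A k' π hπ hker b
      have hb1 : algebraMap R F (ρ (π b)) ≠ 0 := by
        rw [Ne, map_eq_zero_iff _ (IsFractionRing.injective R F), hρb]
        exact hb0
      let x : K' := algebraMap T K' (π a) / algebraMap T K' (π b)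
      have hx : lam x = g := by
        rw [map_div₀, hlam, hlam, div_eq_iff hb1, hρa, ← hab, hρb, mul_comm]
      have hint : IsIntegral T x := by
        have h1 : IsIntegral T (g : F) := isIntegral_trans (R := T) (A := R) _ g.2
        rw [← hx] at h1
        exact (isIntegral_algHom_iff lamT lam.injective).1 h1
      obtain ⟨d, hd⟩ := (IsIntegralClosure.isIntegral_iff (A := D)).1 hint
      refine ⟨1 ⊗ₜ d, ?_⟩
      rw [hΞ, map_one, one_mul]
      apply Subtype.ext
      rw [hμ, hd, hx]
  let e : P ⊗[k'] D ≃ₐ[P] IC := AlgEquiv.ofBijective Ξ ⟨hΞinj, hΞsurj⟩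
  have hsm' : Algebra.Smooth P (P ⊗[k'] D) := Algebra.Smooth.of_equiv e.symm
  exact Algebra.Smooth.of_smooth_tensorProduct_of_faithfullyFlat P

end

end K653.NormCmp
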