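import Groth.Agent.Unram17.K653.NormCmp2

/-!
# Normalization after a finite purely inseparable extension: the algebra statement
-/

set_option autoImplicit false
open scoped TensorProduct
universe u

namespace K653.NormMain

open K148.RedExt NormCmp

theorem map_eq_jj (k P A k' : Type u) [Field k] [Field P] [CommRing A] [Algebra k P] [Algebra k A]
    [Field k'] [Algebra k k'] [Algebra k' P] [IsScalarTower k k' P] (w : k' ⊗[k] A) :
    Algebra.TensorProduct.map (IsScalarTower.toAlgHom k k' P) (AlgHom.id k A) w =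
      jj k P A k' w := by
  induction w with
  | zero => simp
  | tmul a b => simp [jj, Algebra.ofId_apply]
  | add a b ha hb => rw [map_add, map_add, ha, hb]

theorem exists_finset (k P A : Type u) [Field k] [Field P] [CommRing A] [Algebra k P] [Algebra k A]
    [IsDomain A] [Algebra.FiniteType k A] (hdim : ringKrullDim A ≤ 1) [IsPurelyInseparable k P]
    [PerfectField P] :
    ∃ s : Finset P, ∀ (k' : Type u) [Field k'] [Algebra k k'] [Algebra k' P]
      [IsScalarTower k k' P], (∀ x ∈ s, x ∈ Set.range (algebraMap k' P)) →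
      ∀ (T : Type u) [CommRing T] [IsDomain T] [Algebra k' T] (π : k' ⊗[k] A →ₐ[k'] T),
        Function.Surjective π → (∀ z, π z = 0 → IsNilpotent z) →
      ∀ (D K' : Type u) [CommRing D] [Algebra T D] [Algebra k' D] [IsScalarTower k' T D]
        [Field K'] [Algebra T K'] [IsFractionRing T K'] [Algebra D K'] [IsScalarTower T D K']
        [IsIntegralClosure D T K'], Algebra.Smooth k' D := by
  classical
  let R := Red k P A
  let F := FractionRing R
  have hRdom : IsDomain R := isDomain_red k P A
  have hft : Algebra.FiniteType P (P ⊗[k] A) := inferInstance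
  have hnoeth : IsNoetherianRing (P ⊗[k] A) := Algebra.FiniteType.isNoetherianRing P _
  have hRft : Algebra.FiniteType P R := Algebra.FiniteType.of_surjective
    (Ideal.Quotient.mkₐ P (nilradical (P ⊗[k] A))) Ideal.Quotient.mk_surjective
  have hRnoeth : IsNoetherianRing R := Algebra.FiniteType.isNoetherianRing P _
  have hRdim : Ring.KrullDimLE 1 R := by
    rw [Ring.KrullDimLE, Order.krullDimLE_iff]
    change ringKrullDim R ≤ _
    rw [ringKrullDim_red k P A]
    exact hdim
  let IC := integralClosure R F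
  have hICfin : Module.Finite R IC :=
    Groth.Agent.VarietyB.FinNormField.finite_integralClosure_of_finiteType P R F F
  have hICdd : IsDedekindDomain IC := K424.KADimOne.isDedekindDomain R F IC
  have hICft' : Algebra.FiniteType R IC := inferInstance
  have hICft : Algebra.FiniteType P IC := Algebra.FiniteType.trans (S := R) hRft hICft'
  have hsm : Algebra.Smooth P IC := (K658.SmAlg.smooth_iff_isRegularRing P IC).2 inferInstance
  obtain ⟨G, hG⟩ := hICfin.fg_top
  obtain ⟨Ng, hNg⟩ := (IsNoetherian.noetherian (nilradical (P ⊗[k] A)))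
  have hfrac : ∀ g : IC, ∃ a b : P ⊗[k] A,
      (Ideal.Quotient.mk (nilradical (P ⊗[k] A)) b : R) ≠ 0 ∧
      algebraMap R F (Ideal.Quotient.mk _ b) * (g : F) =
        algebraMap R F (Ideal.Quotient.mk _ a) := by
    intro g
    obtain ⟨a, b, hb, hab⟩ := IsFractionRing.div_surjective (A := R) (g : F)
    obtain ⟨a, rfl⟩ := Ideal.Quotient.mk_surjective a
    obtain ⟨b, rfl⟩ := Ideal.Quotient.mk_surjective b
    have hb0 : (Ideal.Quotient.mk (nilradical (P ⊗[k] A)) b : R) ≠ 0 := nonZeroDivisors.ne_zero hb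
    refine ⟨a, b, hb0, ?_⟩
    have h1 : algebraMap R F (Ideal.Quotient.mk _ b) ≠ 0 := by
      rw [Ne, map_eq_zero_iff _ (IsFractionRing.injective R F)]
      exact hb0
    rw [← hab, mul_comm]
    exact div_mul_cancel₀ _ h1
  choose α β hβ hαβ using hfrac
  obtain ⟨s, hs⟩ := NormAlg.exists_finset_range_finset.{u} k P A
    (Ng ∪ (G.image α ∪ G.image β))
  refine ⟨s, ?_⟩
  intro k' _ _ _ _ hk' T _ _ _ π hπ hker D K' _ _ _ _ _ _ _ _ _ _
  have hs' : ∀ z ∈ Ng ∪ (G.image α ∪ G.image β), ∃ w : k' ⊗[k] A, jj k P A k' w = z := by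
    intro z hz
    obtain ⟨w, hw⟩ := hs k' (IsScalarTower.toAlgHom k k' P) hk' z hz
    exact ⟨w, by rw [← map_eq_jj, hw]⟩
  have hN : nilradical (P ⊗[k] A) ≤ (nilradical (k' ⊗[k] A)).map (jj k P A k') := by
    rw [← hNg, Ideal.submodule_span_eq, Ideal.span_le]
    intro n hn
    obtain ⟨w, rfl⟩ := hs' n (Finset.mem_union_left _ hn)
    have h1 : jj k P A k' w ∈ nilradical (P ⊗[k] A) := by
      rw [← hNg]; exact Submodule.subset_span hn
    have h2 : IsNilpotent w := (IsNilpotent.map_iff (jj_injective k P A k')).1 (mem_nilradical.1 h1)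
    exact Ideal.mem_map_of_mem _ (mem_nilradical.2 h2)
  refine smooth k P A k' π hπ hker hN hsm (G : Set IC) hG ?_ D K'
  intro g hg
  obtain ⟨a, ha⟩ := hs' (α g) (Finset.mem_union_right _ (Finset.mem_union_left _
    (Finset.mem_image_of_mem _ hg)))
  obtain ⟨b, hb⟩ := hs' (β g) (Finset.mem_union_right _ (Finset.mem_union_right _
    (Finset.mem_image_of_mem _ hg)))
  refine ⟨a, b, ?_, ?_⟩
  · change Ideal.Quotient.mk _ (jj k P A k' b) ≠ 0
    rw [hb]; exact hβ g
  · change algebraMap R F (Ideal.Quotient.mk _ (jj k P A k' b)) * (g : F) =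
      algebraMap R F (Ideal.Quotient.mk _ (jj k P A k' a))
    rw [ha, hb]
    exact hαβ g

end K653.NormMain
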